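import Groth.Agent.HilbBound.Bound
import Groth.Agent.TFQuot.TFStalk
import Groth.Agent.Snapper.IsoOn
import Groth.Agent.AsympCoh.Word
import Mathlib.Algebra.Homology.ShortComplex.HomologicalComplex

/-!
# Regularity from a complex of regular sheaves with small homology
-/

set_option autoImplicit false
set_option linter.style.haveILetI false
set_option linter.unusedSectionVars false
set_option backward.isDefEq.respectTransparency false
set_option backward.isDefEq.respectTransparency.types false
set_option maxHeartbeats 1000000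

universe u

open CategoryTheory CategoryTheory.Limits AlgebraicGeometry TopologicalSpace Opposite

noncomputable section

namespace Groth.Agent.RegCx

open Groth.Agent Groth.Agent.RegEpi Groth.Agent.PnCoh.Finite Groth.Agent.HilbBound

variable {k : Type u} [Field k] {n : ℕ}

local notation "PP" => Proj (CohB1.polyGrading n k)

/-- Twisting keeps short exact sequences. -/
theorem tw_exact {S : ShortComplex (Proj (CohB1.polyGrading n k)).Modules} (hS : S.ShortExact) (j : ℤ) :
    (RegDescent.twSeq (𝒜 := CohB1.polyGrading n k) S j).ShortExact :=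
  RegDescent.twSeq_exact (ProjRegular.coords k n) ProjRegular.coords_mem ProjRegular.coords_cover hS j

/-- Small support, no higher cohomology. -/
theorem subsingleton_of_dim {H : (Proj (CohB1.polyGrading n k)).Modules} (hH : Coh.IsCoh H)
    (hd : topologicalKrullDim ↥(CohB1.support H) ≤ 1) (j : ℤ) (q : ℕ) (hq : 2 ≤ q) :
    Subsingleton (Coh.HH PP ((twF j).obj H) q) := by
  haveI : IsNoetherian PP := Proj16.isNoetherian_proj _
  haveI : Scheme.IsSeparated PP := inferInstance
  refine Snapper.subsingleton_HH_of_dim_lt (1 + 1) ⟨CohB1.support H, QCoh.isClosed_support_of_isFT hH.1 hH.2⟩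
    (hd.trans_lt (by decide)) _ (HilbBound.isCoh_tw hH j).1 (fun x hx => HilbPoly.support_tensor_subset _ _ hx) q hq

variable (E : ChainComplex (Proj (CohB1.polyGrading n k)).Modules ℕ)

/-- The boundaries. -/
abbrev bd (s : ℕ) : (Proj (CohB1.polyGrading n k)).Modules := Abelian.image (E.d (s + 1) s)

theorem ses_image {A B : (Proj (CohB1.polyGrading n k)).Modules} (f : A ⟶ B) :
    (ShortComplex.mk (Abelian.image.ι f) (cokernel.π f) (kernel.condition _)).ShortExact :=
  .mk' (ShortComplex.exact_of_f_is_kernel _ (kernelIsKernel _)) inferInstance inferInstance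

theorem ses_kernel {A B : (Proj (CohB1.polyGrading n k)).Modules} (f : A ⟶ B) :
    (ShortComplex.mk (kernel.ι f) (Abelian.factorThruImage f) (by
      rw [← cancel_mono (Abelian.image.ι f), Category.assoc, Abelian.image.fac, kernel.condition, zero_comp])).ShortExact :=
  .mk' (ShortComplex.exact_of_f_is_kernel _ (KernelFork.IsLimit.ofι _ _
      (fun g hg => kernel.lift f g (by
        rw [← Abelian.image.fac f, ← Category.assoc]; exact (congrArg (· ≫ Abelian.image.ι f) hg).trans zero_comp))
      (fun g hg => kernel.lift_ι _ _ _)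
      (fun g hg m hm => by rw [← cancel_mono (kernel.ι f), kernel.lift_ι]; exact hm)))
    inferInstance inferInstance

/-- Boundaries inside cycles. -/
def γ (s : ℕ) : bd E (s + 1) ⟶ kernel (E.d (s + 1) s) :=
  kernel.lift _ (Abelian.image.ι (E.d (s + 2) (s + 1))) (by
    rw [← cancel_epi (Abelian.factorThruImage (E.d (s + 2) (s + 1))), ← Category.assoc, Abelian.image.fac,
      E.d_comp_d, comp_zero])

instance mono_γ (s : ℕ) : Mono (γ E s) := by
  haveI : Mono (γ E s ≫ kernel.ι _) := by rw [γ, kernel.lift_ι]; infer_instance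
  exact mono_of_mono _ (kernel.ι (E.d (s + 1) s))

theorem nonempty_cokernel_γ (s : ℕ) : Nonempty (cokernel (γ E s) ≅ E.homology (s + 1)) := by
  let S := E.sc' (s + 2) (s + 1) s
  have hfac : kernel.lift S.g S.f S.zero = Abelian.factorThruImage (E.d (s + 2) (s + 1)) ≫ γ E s := by
    rw [← cancel_mono (kernel.ι S.g), kernel.lift_ι, Category.assoc, γ]
    exact ((congrArg (Abelian.factorThruImage _ ≫ ·) (kernel.lift_ι _ _ _)).trans (Abelian.image.fac _)).symm
  exact ⟨(cokernelEpiComp (Abelian.factorThruImage (E.d (s + 2) (s + 1))) (γ E s)).symm ≪≫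
    cokernelIsoOfEq hfac.symm ≪≫ (ShortComplex.LeftHomologyData.ofHasKernelOfHasCokernel S).homologyIso.symm ≪≫
    (E.homologyIsoSc' (s + 2) (s + 1) s (ChainComplex.prev ℕ (s + 1)) (ChainComplex.next_nat_succ s)).symm⟩

variable (t : ℕ) (hbdd : ∀ s : ℕ, t < s → IsZero (E.X s)) (hcoh : ∀ s : ℕ, Coh.IsCoh (E.X s)) (d : ℤ)
  (hreg : ∀ s : ℕ, Curv2.IsMRegular k n (E.X s) (d + s))
  (hsupp : ∀ i : ℕ, 0 < i → topologicalKrullDim (CohB1.support (E.homology i)) ≤ 1)

include hcoh in
theorem isCoh_image (a b : ℕ) : Coh.IsCoh (Abelian.image (E.d a b)) := by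
  haveI : IsNoetherian PP := Proj16.isNoetherian_proj _
  exact QCoh.isCoh_of_mono (Abelian.image.ι (E.d a b)) (hcoh b)
    (QCoh.isQCoh_kernel (hcoh b).1 (QCoh.isCoh_cokernel (hcoh a).1 (hcoh b) (E.d a b)).1 _)

include hcoh in
theorem isCoh_kernel (a b : ℕ) : Coh.IsCoh (kernel (E.d a b)) := by
  haveI : IsNoetherian PP := Proj16.isNoetherian_proj _
  exact QCoh.isCoh_of_mono (kernel.ι (E.d a b)) (hcoh a) (QCoh.isQCoh_kernel (hcoh a).1 (hcoh b).1 _)

include hbdd hcoh hreg hsupp in
theorem vanish : ∀ (m s : ℕ), t ≤ s + m → ∀ (q : ℕ), 1 ≤ q → ∀ j : ℤ, d + s + 1 - q ≤ j →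
    Subsingleton (Coh.HH PP ((twF j).obj (bd E s)) q) := by
  haveI : IsNoetherian PP := Proj16.isNoetherian_proj _
  intro m
  induction m with
  | zero =>
    intro s hs q _ j _
    haveI : Epi (Abelian.factorThruImage (E.d (s + 1) s)) := inferInstance
    have hz : IsZero (bd E s) := by
      rw [IsZero.iff_id_eq_zero, ← cancel_epi (Abelian.factorThruImage (E.d (s + 1) s))]
      exact (hbdd (s + 1) (by omega)).eq_of_src _ _
    exact Euler.subsingleton_HH_of_isZero ((twF j).map_isZero hz) q
  | succ m ih =>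
    intro s hs q hq j hj
    refine PnCoh.Finite.subsingleton_HH_X₃ (tw_exact (ses_kernel (E.d (s + 1) s)) j) q
      (subsingleton_of_regular (hcoh (s + 1)) (hreg (s + 1)) hq (by push_cast; omega)) ?_
    obtain ⟨e⟩ := nonempty_cokernel_γ E s
    have hC : Coh.IsCoh (cokernel (γ E s)) :=
      QCoh.isCoh_cokernel (isCoh_image E hcoh _ _).1 (isCoh_kernel E hcoh _ _) _
    have hsu : topologicalKrullDim ↥(CohB1.support (cokernel (γ E s))) ≤ 1 := by
      rw [TFQuot.support_iso e]; exact hsupp (s + 1) (Nat.succ_pos s)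
    exact QCoh.subsingleton_HH_X₂
      (tw_exact (S := ShortComplex.mk (γ E s) (cokernel.π _) (cokernel.condition _))
        (.mk' (ShortComplex.exact_of_g_is_cokernel _ (cokernelIsCokernel _)) inferInstance inferInstance) j) (q + 1)
      (ih (s + 1) (by omega) (q + 1) (by omega) j (by push_cast; omega))
      (subsingleton_of_dim hC hsu j (q + 1) (by omega))

include hbdd hcoh hreg hsupp in
theorem isMRegular_cokernel_and_image :
    Curv2.IsMRegular k n (cokernel (E.d 1 0)) d ∧ Curv2.IsMRegular k n (Abelian.image (E.d 1 0)) (d + 1) := by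
  refine ⟨fun q hq _ => ?_, fun q hq _ => ?_⟩
  · exact PnCoh.Finite.subsingleton_HH_X₃ (tw_exact (ses_image (E.d 1 0)) (d - q)) q
      (subsingleton_of_regular (hcoh 0) (hreg 0) hq (by push_cast; omega))
      (vanish E t hbdd hcoh d hreg hsupp t 0 (by omega) (q + 1) (by omega) (d - q) (by push_cast; omega))
  · exact vanish E t hbdd hcoh d hreg hsupp t 0 (by omega) q hq (d + 1 - q) (by push_cast; omega)

end Groth.Agent.RegCx
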